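import Groth.Agent.L18.ZeroDim
import Mathlib.RingTheory.QuasiFinite.Basic
import Mathlib.RingTheory.Spectrum.Prime.Chevalley
import Mathlib.RingTheory.RingHom.FinitePresentation
import Mathlib.FieldTheory.PurelyInseparable.Basic
import Mathlib.FieldTheory.IsSepClosed
import Mathlib.RingTheory.Kaehler.Basic
import Mathlib.Topology.ExtremallyDisconnected

/-!
Quasi-finite algebras of finite presentation over rings with Hausdorff extremally disconnected
spectrum and separably closed residue fields.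
-/

set_option autoImplicit false
set_option linter.style.haveILetI false

universe u

open Topology TensorProduct PrimeSpectrum

namespace Groth.L28.ProEtW

theorem isClopen_of_isConstructible {X : Type*} [TopologicalSpace X] [CompactSpace X] [T2Space X]
    {s : Set X} (hs : IsConstructible s) : IsClopen s := by
  induction hs using IsConstructible.empty_union_induction with
  | open_retrocompact U hU hUc => exact ⟨hUc.isCompact.isClosed, hU⟩
  | union s hs t ht h1 h2 => exact h1.union h2
  | compl s hs h => exact h.compl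

theorem t2Space_of_quasiFinite (A B : Type u) [CommRing A] [CommRing B] [Algebra A B]
    [Algebra.QuasiFinite A B] [T2Space (PrimeSpectrum A)] : T2Space (PrimeSpectrum B) := by
  haveI : T1Space (PrimeSpectrum B) := ⟨fun y => by
    rw [PrimeSpectrum.isClosed_singleton_iff_isMaximal]
    obtain ⟨m, hm, hle⟩ := y.asIdeal.exists_le_maximal y.2.ne_top
    have h1 : (y.asIdeal.under A).IsMaximal :=
      (PrimeSpectrum.isClosed_singleton_iff_isMaximal
        (PrimeSpectrum.comap (algebraMap A B) y)).1 isClosed_singleton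
    have h2 : y.asIdeal.under A = m.under A :=
      h1.eq_of_le (Ideal.IsPrime.under A m).ne_top (Ideal.comap_mono hle)
    rwa [Algebra.QuasiFinite.eq_of_le_of_under_eq (R := A) y.asIdeal m hle h2]⟩
  exact Groth.L18.ZeroDim.spec_t2 B

theorem isOpenMap_comap (A B : Type u) [CommRing A] [CommRing B] [Algebra A B]
    [Algebra.QuasiFinite A B] [Algebra.FinitePresentation A B] [T2Space (PrimeSpectrum A)] :
    IsOpenMap (PrimeSpectrum.comap (algebraMap A B)) := by
  refine (isTopologicalBasis_basic_opens (R := B)).isOpenMap_iff.2 ?_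
  rintro _ ⟨b, rfl⟩
  exact (isClopen_of_isConstructible (PrimeSpectrum.isConstructible_comap_image
    (RingHom.finitePresentation_algebraMap.2 inferInstance) isConstructible_basicOpen)).2

/-- Two maps to a field from the same purely inseparable point agree. -/
theorem mem_of_comap_eq (A B : Type u) [CommRing A] [CommRing B] [Algebra A B]
    [Algebra.QuasiFinite A B] (y : PrimeSpectrum B)
    (hsep : IsSepClosed (y.asIdeal.under A).ResidueField) (r : PrimeSpectrum (B ⊗[A] B))
    (h1 : PrimeSpectrum.comap Algebra.TensorProduct.includeLeftRingHom r = y)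
    (h2 : PrimeSpectrum.comap (Algebra.TensorProduct.includeRight (R := A) (A := B) (B := B)).toRingHom r = y)
    (b : B) : b ⊗ₜ[A] 1 - 1 ⊗ₜ[A] b ∈ r.asIdeal := by
  let L := r.asIdeal.ResidueField
  let g1 : B →ₐ[A] L := (IsScalarTower.toAlgHom A (B ⊗[A] B) L).comp Algebra.TensorProduct.includeLeft
  let g2 : B →ₐ[A] L := (IsScalarTower.toAlgHom A (B ⊗[A] B) L).comp Algebra.TensorProduct.includeRight
  let K := y.asIdeal.ResidueField
  have hu1 : y.asIdeal.primeCompl ≤ (IsUnit.submonoid L).comap g1 := fun x hx => by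
    have : x ⊗ₜ[A] (1 : B) ∉ r.asIdeal := by rw [← h1] at hx; exact hx
    exact isUnit_iff_ne_zero.2 fun h => this ((Ideal.algebraMap_residueField_eq_zero (I := r.asIdeal)).1 h)
  have hu2 : y.asIdeal.primeCompl ≤ (IsUnit.submonoid L).comap g2 := fun x hx => by
    have : (1 : B) ⊗ₜ[A] x ∉ r.asIdeal := by rw [← h2] at hx; exact hx
    exact isUnit_iff_ne_zero.2 fun h => this ((Ideal.algebraMap_residueField_eq_zero (I := r.asIdeal)).1 h)
  have hk1 : y.asIdeal ≤ RingHom.ker g1 := fun x hx => by
    have : x ⊗ₜ[A] (1 : B) ∈ r.asIdeal := by rw [← h1] at hx; exact hx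
    exact (Ideal.algebraMap_residueField_eq_zero (I := r.asIdeal)).2 this
  have hk2 : y.asIdeal ≤ RingHom.ker g2 := fun x hx => by
    have : (1 : B) ⊗ₜ[A] x ∈ r.asIdeal := by rw [← h2] at hx; exact hx
    exact (Ideal.algebraMap_residueField_eq_zero (I := r.asIdeal)).2 this
  let f1 : K →ₐ[A] L := Ideal.ResidueField.liftₐ y.asIdeal g1 hk1 hu1
  let f2 : K →ₐ[A] L := Ideal.ResidueField.liftₐ y.asIdeal g2 hk2 hu2
  haveI : y.asIdeal.LiesOver (y.asIdeal.under A) := ⟨rfl⟩
  letI := Localization.AtPrime.algebraOfLiesOver (y.asIdeal.under A) y.asIdeal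
  let k := (y.asIdeal.under A).ResidueField
  haveI : IsPurelyInseparable k K := inferInstance
  let i : k →ₐ[A] K := IsScalarTower.toAlgHom A k K
  letI : Algebra k L := (f1.comp i).toRingHom.toAlgebra
  have hi : f2.comp i = f1.comp i := Ideal.ResidueField.algHom_ext (by ext)
  let F1 : K →ₐ[k] L := { f1.toRingHom with commutes' := fun c => rfl }
  let F2 : K →ₐ[k] L := { f2.toRingHom with commutes' := fun c => DFunLike.congr_fun hi c }
  have hF := DFunLike.congr_fun (Subsingleton.elim F1 F2) (algebraMap B K b)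
  refine (Ideal.algebraMap_residueField_eq_zero (I := r.asIdeal)).1 ?_
  rw [map_sub, sub_eq_zero]
  exact (Ideal.ResidueField.liftₐ_algebraMap _ g1 hk1 hu1 b).symm.trans (hF.trans (Ideal.ResidueField.liftₐ_algebraMap _ g2 hk2 hu2 b))

theorem exists_injOn_nhd (A B : Type u) [CommRing A] [CommRing B] [Algebra A B]
    [Algebra.QuasiFinite A B] [Algebra.FinitePresentation A B] [T2Space (PrimeSpectrum A)]
    (hres : ∀ p : PrimeSpectrum A, IsSepClosed p.asIdeal.ResidueField) (y : PrimeSpectrum B) :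
    ∃ W : Set (PrimeSpectrum B), IsClopen W ∧ y ∈ W ∧ Set.InjOn (PrimeSpectrum.comap (algebraMap A B)) W := by
  haveI := t2Space_of_quasiFinite A B
  haveI : Algebra.QuasiFinite A (B ⊗[A] B) := Algebra.QuasiFinite.trans A B _
  haveI : Algebra.FinitePresentation A (B ⊗[A] B) := Algebra.FinitePresentation.trans A B _
  haveI := t2Space_of_quasiFinite A (B ⊗[A] B)
  haveI : Algebra.FiniteType A B := Algebra.FiniteType.of_finitePresentation
  obtain ⟨G, hG⟩ := KaehlerDifferential.ideal_fg A B
  have hΔ : IsClopen (zeroLocus (KaehlerDifferential.ideal A B : Set (B ⊗[A] B))) := by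
    refine ⟨isClosed_zeroLocus _, ?_⟩
    rw [← isClosed_compl_iff, ← hG, zeroLocus_span]
    exact (PrimeSpectrum.isCompact_isOpen_iff.2 ⟨G, rfl⟩).1.isClosed
  let π : PrimeSpectrum (B ⊗[A] B) → PrimeSpectrum B × PrimeSpectrum B := fun r =>
    (PrimeSpectrum.comap Algebra.TensorProduct.includeLeftRingHom r,
     PrimeSpectrum.comap (Algebra.TensorProduct.includeRight (R := A) (A := B) (B := B)).toRingHom r)
  have hπ : Continuous π := (PrimeSpectrum.continuous_comap _).prodMk (PrimeSpectrum.continuous_comap _)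
  have hT : IsClosed (π '' (zeroLocus (KaehlerDifferential.ideal A B : Set (B ⊗[A] B)))ᶜ) :=
    (hΔ.compl.1.isCompact.image hπ).isClosed
  have hy : (y, y) ∈ (π '' (zeroLocus (KaehlerDifferential.ideal A B : Set (B ⊗[A] B)))ᶜ)ᶜ := by
    rintro ⟨r, hr, hπr⟩
    refine hr ?_
    rw [← KaehlerDifferential.span_range_eq_ideal, zeroLocus_span]
    rintro _ ⟨b, rfl⟩
    show (1 : B) ⊗ₜ[A] b - b ⊗ₜ[A] (1 : B) ∈ r.asIdeal
    rw [← neg_sub]
    exact r.asIdeal.neg_mem (mem_of_comap_eq A B y (hres (PrimeSpectrum.comap (algebraMap A B) y)) r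
      (congrArg Prod.fst hπr) (congrArg Prod.snd hπr) b)
  obtain ⟨W1, W2, hW1, hW2, hy1, hy2, hW⟩ := isOpen_prod_iff.1 hT.isOpen_compl y y hy
  obtain ⟨_, ⟨b, rfl⟩, hyb, hbW⟩ :=
    (isTopologicalBasis_basic_opens (R := B)).exists_subset_of_mem_open (⟨hy1, hy2⟩ : y ∈ W1 ∩ W2) (hW1.inter hW2)
  refine ⟨_, isClopen_of_isConstructible isConstructible_basicOpen, hyb, fun w hw w' hw' e => ?_⟩
  by_contra hne
  obtain ⟨r, hr1, hr2⟩ := exists_comap_pair A B w w' e
  refine hW (Set.mk_mem_prod (hbW hw).1 (hbW hw').2) ⟨r, fun hr => hne ?_, Prod.ext hr1 hr2⟩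
  rw [← hr1, ← hr2]
  ext x
  have hx : (1 : B) ⊗ₜ[A] x - x ⊗ₜ[A] (1 : B) ∈ r.asIdeal :=
    hr (KaehlerDifferential.one_smul_sub_smul_one_mem_ideal A x)
  show x ⊗ₜ[A] (1 : B) ∈ r.asIdeal ↔ (1 : B) ⊗ₜ[A] x ∈ r.asIdeal
  exact ⟨fun h => (Submodule.sub_mem_iff_left _ h).1 hx, fun h => (Submodule.sub_mem_iff_right _ h).1 hx⟩
where
  exists_comap_pair (A B : Type u) [CommRing A] [CommRing B] [Algebra A B] (w w' : PrimeSpectrum B)
      (e : PrimeSpectrum.comap (algebraMap A B) w = PrimeSpectrum.comap (algebraMap A B) w') :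
      ∃ r : PrimeSpectrum (B ⊗[A] B), PrimeSpectrum.comap Algebra.TensorProduct.includeLeftRingHom r = w ∧
        PrimeSpectrum.comap (Algebra.TensorProduct.includeRight (R := A) (A := B) (B := B)).toRingHom r = w' := by
    haveI : w.asIdeal.LiesOver (w.asIdeal.under A) := ⟨rfl⟩
    haveI : w'.asIdeal.LiesOver (w.asIdeal.under A) := ⟨congrArg PrimeSpectrum.asIdeal e⟩
    letI := Localization.AtPrime.algebraOfLiesOver (w.asIdeal.under A) w.asIdeal
    letI := Localization.AtPrime.algebraOfLiesOver (w.asIdeal.under A) w'.asIdeal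
    let K := w.asIdeal.ResidueField
    let K' := w'.asIdeal.ResidueField
    let T := K ⊗[(w.asIdeal.under A).ResidueField] K'
    haveI : Nontrivial T := inferInstance
    obtain ⟨m, hm⟩ := Ideal.exists_maximal T
    let φ : B ⊗[A] B →ₐ[A] T := Algebra.TensorProduct.lift
      ((Algebra.TensorProduct.includeLeft (R := (w.asIdeal.under A).ResidueField) (S := (w.asIdeal.under A).ResidueField) (A := K) (B := K')).restrictScalars A |>.comp (IsScalarTower.toAlgHom A B K))
      ((Algebra.TensorProduct.includeRight (R := (w.asIdeal.under A).ResidueField) (A := K) (B := K')).restrictScalars A |>.comp (IsScalarTower.toAlgHom A B K'))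
      (fun _ _ => Commute.all _ _)
    refine ⟨⟨m.comap φ, inferInstance⟩, ?_, ?_⟩
    · refine PrimeSpectrum.ext (Ideal.ext fun x => ?_)
      show φ (x ⊗ₜ[A] 1) ∈ m ↔ x ∈ w.asIdeal
      rw [Algebra.TensorProduct.lift_tmul, map_one, mul_one]
      show (Algebra.TensorProduct.includeLeftRingHom : K →+* T) (algebraMap B K x) ∈ m ↔ _
      rw [← Ideal.mem_comap, Ideal.eq_bot_of_prime (m.comap _), Ideal.mem_bot, Ideal.algebraMap_residueField_eq_zero]
    · refine PrimeSpectrum.ext (Ideal.ext fun x => ?_)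
      show φ (1 ⊗ₜ[A] x) ∈ m ↔ x ∈ w'.asIdeal
      rw [Algebra.TensorProduct.lift_tmul, map_one, one_mul]
      show (Algebra.TensorProduct.includeRight : K' →ₐ[_] T).toRingHom (algebraMap B K' x) ∈ m ↔ _
      rw [← Ideal.mem_comap, Ideal.eq_bot_of_prime (m.comap _), Ideal.mem_bot, Ideal.algebraMap_residueField_eq_zero]

theorem extremallyDisconnected (A B : Type u) [CommRing A] [CommRing B] [Algebra A B]
    [Algebra.QuasiFinite A B] [Algebra.FinitePresentation A B]
    (hres : ∀ p : PrimeSpectrum A, IsSepClosed p.asIdeal.ResidueField)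
    [T2Space (PrimeSpectrum A)] [ExtremallyDisconnected (PrimeSpectrum A)] :
    ExtremallyDisconnected (PrimeSpectrum B) := by
  refine ⟨fun U hU => isOpen_iff_mem_nhds.2 fun y hy => ?_⟩
  obtain ⟨W, hW, hyW, hinj⟩ := exists_injOn_nhd A B hres y
  let f := PrimeSpectrum.comap (algebraMap A B)
  have hf : Continuous f := PrimeSpectrum.continuous_comap _
  have hV : IsOpen (f '' (U ∩ W)) := isOpenMap_comap A B _ (hU.inter hW.2)
  have hsub : closure (f '' (U ∩ W)) ⊆ f '' (closure U ∩ W) :=
    closure_minimal (Set.image_mono (Set.inter_subset_inter_left _ subset_closure))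
      ((isClosed_closure.inter hW.1).isCompact.image hf).isClosed
  have hy' : f y ∈ closure (f '' (U ∩ W)) := by
    refine image_closure_subset_closure_image hf ⟨y, ?_, rfl⟩
    rw [Set.inter_comm]
    exact hW.2.inter_closure ⟨hyW, hy⟩
  refine Filter.mem_of_superset
    ((hW.2.inter ((ExtremallyDisconnected.open_closure _ hV).preimage hf)).mem_nhds ⟨hyW, hy'⟩) ?_
  rintro w ⟨hwW, hw⟩
  obtain ⟨c, ⟨hcU, hcW⟩, hc⟩ := hsub hw
  rwa [← hinj hcW hwW hc]

end Groth.L28.ProEtW
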